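import Cfsg.Agent.Lib.FrobFree.Ring

/-!
A group `A ⊇ N ⋊ H` with fixed-point-free `H` and no fixed vectors of `N` acts freely through `H`.
-/

set_option autoImplicit false

namespace Cfsg.Agent.FrobFree

open scoped Pointwise

universe u v w

variable {k : Type u} [Field k] {A : Type w} [Group A]

/-- `V` is free over the subgroup `H`. -/
def Free {V : Type v} [AddCommGroup V] [Module k V] (ρ : Representation k A V) (H : Subgroup A)
    [Fintype H] : Prop :=
  ∃ W : Submodule k V, (∀ x : V, ∃ y : H → V, (∀ h, y h ∈ W) ∧ ∑ h : H, ρ (h : A) (y h) = x) ∧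
    ∀ y : H → V, (∀ h, y h ∈ W) → ∑ h : H, ρ (h : A) (y h) = 0 → y = 0

variable {V : Type v} [AddCommGroup V] [Module k V]

theorem rmul (ρ : Representation k A V) (a b : A) (x : V) : ρ (a * b) x = ρ a (ρ b x) := by
  rw [map_mul]; rfl

theorem rone (ρ : Representation k A V) (x : V) : ρ 1 x = x := by rw [map_one]; rfl

/-- The case of an abelian operator group with no fixed points. -/
theorem free_core [FiniteDimensional k V] (ρ : Representation k A V) (H Z : Subgroup A)
    [Fintype H] [Fintype Z] [Z.Normal] (hcard : (Nat.card Z : k) ≠ 0)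
    (hfpf : ∀ h ∈ H, h ≠ 1 → ∀ z ∈ Z, Commute h z → z = 1)
    (hcomm : ∀ a ∈ Z, ∀ b ∈ Z, ρ a * ρ b = ρ b * ρ a) (havg : ∑ z : Z, ρ (z : A) = 0) :
    Free ρ H := by
  classical
  have hsc : ∀ a ∈ ρ '' (Z : Set A), ∀ b ∈ ρ '' (Z : Set A), a * b = b * a := by
    rintro _ ⟨a, ha, rfl⟩ _ ⟨b, hb, rfl⟩; exact hcomm a ha b hb
  let R : Subalgebra k (Module.End k V) := Algebra.adjoin k (ρ '' (Z : Set A))
  letI : CommRing R := Algebra.adjoinCommRingOfComm k hsc
  have hstab : ∀ (h : H) (r : R), ρ (h : A) * (r : Module.End k V) * ρ ((h : A)⁻¹) ∈ R := by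
    intro h r
    refine Algebra.adjoin_induction (p := fun x _ => ρ (h : A) * x * ρ ((h : A)⁻¹) ∈ R)
      ?_ ?_ ?_ ?_ r.2
    · rintro _ ⟨z, hz, rfl⟩
      rw [← map_mul, ← map_mul]
      exact Algebra.subset_adjoin ⟨_, Subgroup.Normal.conj_mem inferInstance z hz h, rfl⟩
    · intro c
      rw [← Algebra.commutes, mul_assoc, ← map_mul, mul_inv_cancel, map_one, mul_one]
      exact R.algebraMap_mem c
    · intro x y _ _ hx hy
      rw [mul_add, add_mul]; exact R.add_mem hx hy
    · intro x y _ _ hx hy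
      have := R.mul_mem hx hy
      rw [show ρ (h : A) * x * ρ ((h : A)⁻¹) * (ρ (h : A) * y * ρ ((h : A)⁻¹)) =
        ρ (h : A) * x * (ρ ((h : A)⁻¹) * ρ (h : A)) * y * ρ ((h : A)⁻¹) by
          simp only [mul_assoc], ← map_mul, inv_mul_cancel, map_one, mul_one] at this
      simpa only [mul_assoc] using this
  letI : MulSemiringAction H R :=
    { smul := fun h r => ⟨ρ (h : A) * (r : Module.End k V) * ρ ((h : A)⁻¹), hstab h r⟩
      one_smul := fun r => Subtype.ext (by
        change ρ ((1 : H) : A) * (r : Module.End k V) * ρ (((1 : H) : A)⁻¹) = r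
        rw [Subgroup.coe_one, inv_one, map_one, one_mul, mul_one])
      mul_smul := fun g h r => Subtype.ext (by
        change ρ ((g * h : H) : A) * (r : Module.End k V) * ρ (((g * h : H) : A)⁻¹) =
          ρ (g : A) * (ρ (h : A) * (r : Module.End k V) * ρ ((h : A)⁻¹)) * ρ ((g : A)⁻¹)
        rw [Subgroup.coe_mul, mul_inv_rev, map_mul, map_mul]; simp only [mul_assoc])
      smul_zero := fun h => Subtype.ext (by
        change ρ (h : A) * ((0 : R) : Module.End k V) * ρ ((h : A)⁻¹) = 0
        simp)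
      smul_add := fun h r s => Subtype.ext (by
        change ρ (h : A) * ((r : Module.End k V) + s) * ρ ((h : A)⁻¹) = _ + _
        rw [mul_add, add_mul]; rfl)
      smul_one := fun h => Subtype.ext (by
        change ρ (h : A) * 1 * ρ ((h : A)⁻¹) = 1
        rw [mul_one, ← map_mul, mul_inv_cancel, map_one])
      smul_mul := fun h r s => Subtype.ext (by
        change ρ (h : A) * ((r : Module.End k V) * s) * ρ ((h : A)⁻¹) =
          ρ (h : A) * (r : Module.End k V) * ρ ((h : A)⁻¹) *
            (ρ (h : A) * (s : Module.End k V) * ρ ((h : A)⁻¹))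
        rw [show ρ (h : A) * (r : Module.End k V) * ρ ((h : A)⁻¹) *
          (ρ (h : A) * (s : Module.End k V) * ρ ((h : A)⁻¹)) = ρ (h : A) * (r : Module.End k V) *
          (ρ ((h : A)⁻¹) * ρ (h : A)) * (s : Module.End k V) * ρ ((h : A)⁻¹) by
            simp only [mul_assoc], ← map_mul, inv_mul_cancel, map_one, mul_one]
        simp only [mul_assoc]) }
  have hsm : ∀ (h : H) (r : R), ((h • r : R) : Module.End k V) =
      ρ (h : A) * (r : Module.End k V) * ρ ((h : A)⁻¹) := fun _ _ => rfl
  have hact : ∀ (h : H) (r : R) (x : V), ((h • r : R) : Module.End k V) (ρ (h : A) x) =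
      ρ (h : A) ((r : Module.End k V) x) := by
    intro h r x
    rw [hsm, Module.End.mul_apply, Module.End.mul_apply, ← rmul, inv_mul_cancel, rone]
  have : IsArtinianRing R := IsArtinianRing.of_finite k R
  have hfree : ∀ h : H, h ≠ 1 → ∀ P : Ideal R, P.IsMaximal → ∃ x : R, h • x - x ∉ P := by
    intro h hh P hP
    by_contra! hc
    let r : A → R := fun a => if ha : a ∈ Z then ⟨ρ a, Algebra.subset_adjoin ⟨a, ha, rfl⟩⟩ else 1
    have hr : ∀ a ∈ Z, ((r a : R) : Module.End k V) = ρ a := fun a ha => by simp [r, ha]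
    let φ : Z → Z := fun z => z⁻¹ * ⟨(h : A) * z * (h : A)⁻¹,
      Subgroup.Normal.conj_mem inferInstance _ z.2 h⟩
    have hφ : Function.Bijective φ := by
      refine Finite.injective_iff_bijective.mp fun z₁ z₂ hz => ?_
      have hz' : (z₁ : A)⁻¹ * ((h : A) * z₁ * (h : A)⁻¹) =
          (z₂ : A)⁻¹ * ((h : A) * z₂ * (h : A)⁻¹) := congrArg Subtype.val hz
      have h1 := hfpf h h.2 (fun h0 => hh (Subtype.ext h0)) ((z₂ : A) * (z₁ : A)⁻¹)
        (Z.mul_mem z₂.2 (Z.inv_mem z₁.2)) (by
          change (h : A) * ((z₂ : A) * (z₁ : A)⁻¹) = (z₂ : A) * (z₁ : A)⁻¹ * h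
          calc (h : A) * ((z₂ : A) * (z₁ : A)⁻¹)
              = (z₂ : A) * ((z₂ : A)⁻¹ * ((h : A) * z₂ * (h : A)⁻¹)) *
                ((h : A) * (z₁ : A)⁻¹ * (h : A)⁻¹) * h := by group
            _ = (z₂ : A) * ((z₁ : A)⁻¹ * ((h : A) * z₁ * (h : A)⁻¹)) *
                ((h : A) * (z₁ : A)⁻¹ * (h : A)⁻¹) * h := by rw [hz']
            _ = (z₂ : A) * (z₁ : A)⁻¹ * h := by group)
      exact Subtype.ext (mul_inv_eq_one.mp h1).symm
    have hsum : ∑ z : Z, r ((φ z : Z) : A) = 0 := by
      rw [hφ.sum_comp (fun z : Z => r (z : A))]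
      refine Subtype.ext ?_
      rw [AddSubmonoidClass.coe_finsetSum]
      simpa [hr _ (Subtype.prop _)] using havg
    let π := Ideal.Quotient.mk P
    have hone : ∀ z : Z, π (r ((φ z : Z) : A)) = 1 := by
      intro z
      have e1 : r ((φ z : Z) : A) = r ((z : A)⁻¹) * (h • r (z : A)) := Subtype.ext (by
        rw [Subalgebra.coe_mul, hr _ (φ z).2, hr _ (Z.inv_mem z.2), hsm, hr _ z.2]
        simp [φ, map_mul, mul_assoc])
      have e2 : r ((z : A)⁻¹) * r (z : A) = 1 := Subtype.ext (by
        rw [Subalgebra.coe_mul, hr _ (Z.inv_mem z.2), hr _ z.2, ← map_mul, inv_mul_cancel,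
          map_one]; rfl)
      rw [e1, map_mul, show π (h • r (z : A)) = π (r (z : A)) from
        Ideal.Quotient.eq.mpr (hc _), ← map_mul, e2, map_one]
    have h0 : π (Fintype.card Z : R) = 0 := by
      have := congrArg π hsum
      simpa [hone] using this
    rw [Ideal.Quotient.eq_zero_iff_mem] at h0
    refine hP.ne_top (Ideal.eq_top_of_isUnit_mem _ h0 ?_)
    have : IsUnit ((Fintype.card Z : k)) := isUnit_iff_ne_zero.mpr (by
      rwa [← Nat.card_eq_fintype_card])
    simpa using this.map (algebraMap k R)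
  obtain ⟨θ, hθ⟩ := exists_groupMatrix_isUnit hfree
  set M : Matrix H H R := Matrix.of fun g h : H => (g * h) • θ with hM
  let W0 : Submodule k V :=
    { carrier := {x | ∀ h : H, ρ (h : A) x = x}
      add_mem' := fun {x y} hx hy h => by simp [hx h, hy h]
      zero_mem' := fun h => map_zero _
      smul_mem' := fun c x hx h => by simp [hx h] }
  refine ⟨W0.map (θ : Module.End k V), ?_, ?_⟩
  · intro x
    let T : V → V := fun y => ∑ g : H, ρ (g : A) y
    have hT : ∀ y, T y ∈ W0 := fun y g => by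
      simp only [T, map_sum, ← rmul, ← Subgroup.coe_mul]
      exact Equiv.sum_comp (Equiv.mulLeft g) (fun u : H => ρ (u : A) y)
    refine ⟨fun h => (θ : Module.End k V) (T ((M⁻¹ h 1 : R) • x)),
      fun h => Submodule.mem_map_of_mem (hT _), ?_⟩
    have hMM : M * M⁻¹ = 1 := Matrix.mul_nonsing_inv M hθ
    have hd : ∀ g : H, ∑ h : H, (h • θ) * (g • M⁻¹ h 1) = if g = 1 then 1 else 0 := by
      intro g
      have h1 := congrArg (fun Q : Matrix H H R => g • Q g⁻¹ 1) hMM
      simp only [Matrix.mul_apply, hM, Matrix.of_apply, Finset.smul_sum, smul_mul', smul_smul,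
        mul_inv_cancel_left, Matrix.one_apply, inv_eq_one] at h1
      rw [h1]
      split_ifs with hg <;> simp
    calc ∑ h : H, ρ (h : A) ((θ : Module.End k V) (T ((M⁻¹ h 1 : R) • x)))
        = ∑ h : H, ∑ g : H, (((h • θ) * (g • M⁻¹ h 1) : R) : Module.End k V) (ρ (g : A) x) := by
          refine Finset.sum_congr rfl fun h _ => ?_
          rw [← hact, hT _ h, map_sum]
          refine Finset.sum_congr rfl fun g _ => ?_
          rw [Subalgebra.coe_mul, Module.End.mul_apply, hact]
          rfl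
      _ = ∑ g : H, ((if g = 1 then 1 else 0 : R) : Module.End k V) (ρ (g : A) x) := by
          rw [Finset.sum_comm]
          refine Finset.sum_congr rfl fun g _ => ?_
          rw [← hd g, AddSubmonoidClass.coe_finsetSum, LinearMap.sum_apply]
      _ = x := by
          rw [Finset.sum_eq_single 1]
          · simp
          · intro g _ hg; simp [hg]
          · simp
  · intro y hy hsum
    choose w hw hwy using fun h => Submodule.mem_map.mp (hy h)
    have hg : ∀ g : H, ∑ h : H, ((M g h : R) : Module.End k V) (w h) = 0 := by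
      intro g
      have h1 := congrArg (ρ (g : A)) hsum
      rw [map_zero, map_sum] at h1
      rw [← h1]
      refine Finset.sum_congr rfl fun h _ => ?_
      rw [← rmul, ← Subgroup.coe_mul, ← hwy h, ← hact, hw h (g * h)]
      rfl
    have hMM : M⁻¹ * M = 1 := Matrix.nonsing_inv_mul M hθ
    funext l
    have : w l = 0 := by
      have h1 : ∑ g : H, ((M⁻¹ l g : R) : Module.End k V)
          (∑ h : H, ((M g h : R) : Module.End k V) (w h)) = 0 := by simp [hg]
      simp only [map_sum] at h1
      rw [Finset.sum_comm] at h1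
      have h2 : ∀ h : H, ∑ g : H, ((M⁻¹ l g : R) : Module.End k V)
          (((M g h : R) : Module.End k V) (w h)) =
          (((M⁻¹ * M) l h : R) : Module.End k V) (w h) := by
        intro h
        rw [Matrix.mul_apply, AddSubmonoidClass.coe_finsetSum, LinearMap.sum_apply]
        exact Finset.sum_congr rfl fun g _ => rfl
      simp only [h2, hMM] at h1
      rw [Finset.sum_eq_single l] at h1
      · simpa using h1
      · intro h _ hne; simp [Matrix.one_apply_ne (Ne.symm hne)]
      · simp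
    rw [← hwy l, this, map_zero]; rfl

/-- A complementary pair of invariant subspaces. -/
theorem free_of_isCompl (ρ : Representation k A V) (H : Subgroup A) [Fintype H]
    (C D : Submodule k V) (hCD : IsCompl C D) (hC : ∀ a, ∀ x ∈ C, ρ a x ∈ C)
    (hD : ∀ a, ∀ x ∈ D, ρ a x ∈ D) (ρC : Representation k A C) (ρD : Representation k A D)
    (eC : ∀ a (x : C), (ρC a x : V) = ρ a x) (eD : ∀ a (x : D), (ρD a x : V) = ρ a x)
    (fC : Free ρC H) (fD : Free ρD H) : Free ρ H := by
  classical
  obtain ⟨W1, s1, i1⟩ := fC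
  obtain ⟨W2, s2, i2⟩ := fD
  refine ⟨W1.map C.subtype ⊔ W2.map D.subtype, fun x => ?_, fun y hy hsum => ?_⟩
  · obtain ⟨c, hc, d, hd, rfl⟩ :=
      Submodule.mem_sup.mp (hCD.sup_eq_top ▸ Submodule.mem_top : x ∈ C ⊔ D)
    obtain ⟨y1, m1, e1⟩ := s1 ⟨c, hc⟩
    obtain ⟨y2, m2, e2⟩ := s2 ⟨d, hd⟩
    refine ⟨fun h => (y1 h : V) + (y2 h : V), fun h => Submodule.add_mem_sup
      (Submodule.mem_map_of_mem (m1 h)) (Submodule.mem_map_of_mem (m2 h)), ?_⟩
    have a1 : ∑ h : H, ρ (h : A) (y1 h : V) = c := by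
      simpa [eC] using congrArg (Subtype.val) e1
    have a2 : ∑ h : H, ρ (h : A) (y2 h : V) = d := by
      simpa [eD] using congrArg (Subtype.val) e2
    simp only [map_add, Finset.sum_add_distrib, a1, a2]
  · have hdec : ∀ h, ∃ a ∈ W1, ∃ b ∈ W2, (a : V) + (b : V) = y h := fun h => by
      obtain ⟨_, ⟨a, ha, rfl⟩, _, ⟨b, hb, rfl⟩, hab⟩ := Submodule.mem_sup.mp (hy h)
      exact ⟨a, ha, b, hb, hab⟩
    choose a ha b hb hab using hdec
    have hab' : ∑ h : H, ρ (h : A) (a h : V) + ∑ h : H, ρ (h : A) (b h : V) = 0 := by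
      simp only [← Finset.sum_add_distrib, ← map_add, hab, hsum]
    have hx : ∑ h : H, ρ (h : A) (a h : V) = 0 := by
      refine Submodule.disjoint_def.mp hCD.disjoint _
        (C.sum_mem fun h _ => hC _ _ (a h).2) ?_
      rw [eq_neg_of_add_eq_zero_left hab']
      exact D.neg_mem (D.sum_mem fun h _ => hD _ _ (b h).2)
    have hz : ∑ h : H, ρ (h : A) (b h : V) = 0 := by rwa [hx, zero_add] at hab'
    have ha0 := i1 a ha (Subtype.ext (by simpa [eC] using hx))
    have hb0 := i2 b hb (Subtype.ext (by simpa [eD] using hz))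
    funext h
    rw [← hab h, ha0, hb0]; simp

/-- A nilpotent normal subgroup, of order invertible in `k`, without fixed vectors. -/
theorem free_of_nilpotent [Finite A] (H Q : Subgroup A) [Fintype H] [Q.Normal]
    [Group.IsNilpotent Q] (hcard : (Nat.card Q : k) ≠ 0)
    (hfpf : ∀ h ∈ H, h ≠ 1 → ∀ z ∈ Q, Commute h z → z = 1) :
    ∀ m : ℕ, ∀ N : Subgroup A, N.Normal → N ≤ Q → Nat.card Q - Nat.card N = m →
      ∀ (V : Type v) [AddCommGroup V] [Module k V] [FiniteDimensional k V]
        (ρ : Representation k A V), (∀ n ∈ N, ρ n = 1) →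
        (∀ x : V, (∀ f ∈ Q, ρ f x = x) → x = 0) → Free ρ H := by
  classical
  intro m
  induction m using Nat.strong_induction_on with
  | _ m ih =>
  intro N hN hNQ hm V _ _ _ ρ hρN hfix
  by_cases hQN : Q ≤ N
  · have hV : ∀ x : V, x = 0 := fun x => hfix x fun f hf => by rw [hρN f (hQN hf)]; rfl
    exact ⟨⊥, fun x => ⟨0, fun _ => zero_mem _, by rw [hV x]; simp⟩,
      fun y _ _ => funext fun h => hV _⟩
  let mk := QuotientGroup.mk' N
  let Z : Subgroup A := Q ⊓ (Subgroup.centralizer ((Q.map mk : Subgroup (A ⧸ N)) : Set (A ⧸ N))).comap mk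
  have hQm : (Q.map mk).Normal := Subgroup.Normal.map inferInstance _ (QuotientGroup.mk'_surjective N)
  have hZn : Z.Normal := inferInstanceAs (Subgroup.Normal (_ ⊓ _))
  have hNZ : N ≤ Z := le_inf hNQ fun n hn => by
    rw [Subgroup.mem_comap, show mk n = 1 from (QuotientGroup.eq_one_iff n).mpr hn]
    exact one_mem _
  have hlt : ¬ Z ≤ N := by
    intro hZN
    have h1 : ∀ i, (Subgroup.lowerCentralSeries (⊤ : Subgroup Q) i).map Q.subtype ≤ N → Q ≤ N := by
      intro i
      induction i with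
      | zero => intro h; simpa [← MonoidHom.range_eq_map] using h
      | succ i hi =>
        intro h
        refine hi fun z hz => hZN ?_
        obtain ⟨z, hzl, rfl⟩ := Subgroup.mem_map.mp hz
        refine ⟨z.2, ?_⟩
        change mk (z : A) ∈ Subgroup.centralizer _
        rw [Subgroup.mem_centralizer_iff]
        rintro _ ⟨f, hf, rfl⟩
        have h2 := h (Subgroup.mem_map_of_mem Q.subtype
          (Subgroup.commutator_mem_commutator hzl (Subgroup.mem_top (⟨f, hf⟩ : Q))))
        have h3 : mk ((z : A) * f * (z : A)⁻¹ * f⁻¹) = 1 :=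
          (QuotientGroup.eq_one_iff _).mpr (by simpa [commutatorElement_def] using h2)
        simp only [map_mul, map_inv, mul_inv_eq_one, mul_inv_eq_iff_eq_mul] at h3
        simpa using h3.symm
    obtain ⟨n, hn⟩ := Subgroup.nilpotent_iff_lowerCentralSeries.mp (inferInstance : Group.IsNilpotent Q)
    exact hQN (h1 n (by rw [hn]; simp))
  letI : Fintype Z := Fintype.ofFinite Z
  have hZk : (Nat.card Z : k) ≠ 0 := fun h0 => hcard (by
    obtain ⟨c, hc⟩ := Subgroup.card_dvd_of_le (inf_le_left : Z ≤ Q)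
    rw [hc, Nat.cast_mul, h0, zero_mul])
  let S : Module.End k V := ∑ z : Z, ρ (z : A)
  have hSconj : ∀ (a : A) (x : V), S (ρ a x) = ρ a (S x) := by
    intro a x
    simp only [S, LinearMap.sum_apply, map_sum, ← rmul]
    exact Fintype.sum_equiv (MulAut.conjNormal a).symm.toEquiv _ _ fun z => by
      congr 2
      simp [MulAut.conjNormal_symm_apply]
      group
  let C : Submodule k V :=
    { carrier := {x | ∀ z ∈ Z, ρ z x = x}
      add_mem' := fun {x y} hx hy h hh => by simp [hx h hh, hy h hh]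
      zero_mem' := fun h _ => map_zero _
      smul_mem' := fun c x hx h hh => by simp [hx h hh] }
  let D : Submodule k V := LinearMap.ker S
  have hSC : ∀ x, S x ∈ C := fun x z hz => by
    simp only [S, LinearMap.sum_apply, map_sum, ← rmul]
    exact Equiv.sum_comp (Equiv.mulLeft (⟨z, hz⟩ : Z)) (fun u : Z => ρ (u : A) x)
  have hSfix : ∀ x ∈ C, S x = (Nat.card Z : k) • x := fun x hx => by
    simp only [S, LinearMap.sum_apply, Nat.card_eq_fintype_card]
    rw [Finset.sum_congr rfl fun (z : Z) _ => hx z z.2, Finset.sum_const, Finset.card_univ,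
      ← Nat.cast_smul_eq_nsmul k]
  have hCD : IsCompl C D := by
    refine ⟨Submodule.disjoint_def.mpr fun x hx hx' => ?_, codisjoint_iff.mpr (eq_top_iff.mpr fun x _ => ?_)⟩
    · exact (smul_eq_zero_iff_right hZk).mp ((hSfix x hx).symm.trans hx')
    · rw [Submodule.mem_sup]
      refine ⟨(Nat.card Z : k)⁻¹ • S x, C.smul_mem _ (hSC x), x - (Nat.card Z : k)⁻¹ • S x, ?_, by abel⟩
      rw [LinearMap.mem_ker, map_sub, map_smul, hSfix _ (hSC x), smul_smul, inv_mul_cancel₀ hZk,
        one_smul, sub_self]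
  have hC : ∀ a, ∀ x ∈ C, ρ a x ∈ C := fun a x hx z hz => by
    have h1 := hx _ (hZn.conj_mem' z hz a)
    calc ρ z (ρ a x) = ρ a (ρ (a⁻¹ * z * a) x) := by rw [← rmul, ← rmul]; congr 2; group
      _ = ρ a x := by rw [h1]
  have hD : ∀ a, ∀ x ∈ D, ρ a x ∈ D := fun a x hx => by
    rw [LinearMap.mem_ker, hSconj, LinearMap.mem_ker.mp hx, map_zero]
  let ρC : Representation k A C :=
    { toFun := fun a => (ρ a).restrict (hC a)
      map_one' := LinearMap.ext fun x => Subtype.ext (rone ρ x)
      map_mul' := fun a b => LinearMap.ext fun x => Subtype.ext (rmul ρ a b x) }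
  let ρD : Representation k A D :=
    { toFun := fun a => (ρ a).restrict (hD a)
      map_one' := LinearMap.ext fun x => Subtype.ext (rone ρ x)
      map_mul' := fun a b => LinearMap.ext fun x => Subtype.ext (rmul ρ a b x) }
  refine free_of_isCompl ρ H C D hCD hC hD ρC ρD (fun _ _ => rfl) (fun _ _ => rfl) ?_ ?_
  · refine ih (Nat.card Q - Nat.card Z) ?_ Z hZn inf_le_left rfl C ρC
      (fun n hn => LinearMap.ext fun x => Subtype.ext (x.2 n hn))
      (fun x hx => Subtype.ext (hfix x fun f hf => congrArg Subtype.val (hx f hf)))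
    have h1 : Nat.card N < Nat.card Z := by
      refine lt_of_le_of_ne (Subgroup.card_le_of_le hNZ) fun h => hlt ?_
      exact (Subgroup.eq_of_le_of_card_ge hNZ h.ge).ge
    have h2 : Nat.card Z ≤ Nat.card Q := Subgroup.card_le_of_le inf_le_left
    omega
  · refine free_core ρD H Z hZk (fun h hh h1 z hz => hfpf h hh h1 z hz.1) ?_ ?_
    · intro a ha b hb
      refine LinearMap.ext fun x => Subtype.ext ?_
      change ρ a (ρ b x) = ρ b (ρ a x)
      have h1 := Subgroup.mem_centralizer_iff.mp ha.2 (mk b) (Subgroup.mem_map_of_mem mk hb.1)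
      have h2 : (a * b)⁻¹ * (b * a) ∈ N := by
        rw [← QuotientGroup.eq_one_iff (N := N)]
        change mk ((a * b)⁻¹ * (b * a)) = 1
        rw [map_mul, map_inv, map_mul, map_mul, h1, inv_mul_cancel]
      rw [← rmul, ← rmul, show b * a = a * b * ((a * b)⁻¹ * (b * a)) by group, rmul ρ (a * b), hρN _ h2]
      rfl
    · refine LinearMap.ext fun x => Subtype.ext ?_
      have h1 : S x = 0 := LinearMap.mem_ker.mp x.2
      simp only [LinearMap.sum_apply, AddSubmonoidClass.coe_finsetSum, LinearMap.zero_apply,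
        ZeroMemClass.coe_zero]
      exact (LinearMap.sum_apply Finset.univ (fun z : Z => ρ (z : A)) (x : V)).symm.trans h1

end Cfsg.Agent.FrobFree
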