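import Mathlib

/-!
A finite group acting freely on the maximal spectrum data of an Artinian commutative ring has a
normal basis element: the group matrix of some element is invertible.
-/

set_option autoImplicit false

namespace Cfsg.Agent.FrobFree

open scoped Pointwise

variable {H R : Type*} [Group H] [CommRing R] [MulSemiringAction H R]

/-- The action of the stabiliser of an ideal on the quotient ring. -/
noncomputable def quotAut (P : Ideal R) : MulAction.stabilizer H P →* RingAut (R ⧸ P) where
  toFun s := Ideal.quotientEquiv P P (MulSemiringAction.toRingAut H R (s : H))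
    (s.2.symm.trans rfl)
  map_one' := by
    refine RingEquiv.ext fun x => ?_
    obtain ⟨x, rfl⟩ := Ideal.Quotient.mk_surjective x
    exact congrArg (Ideal.Quotient.mk P) (one_smul H x)
  map_mul' s t := by
    refine RingEquiv.ext fun x => ?_
    obtain ⟨x, rfl⟩ := Ideal.Quotient.mk_surjective x
    exact congrArg (Ideal.Quotient.mk P) (mul_smul (s : H) (t : H) x)

theorem quotAut_mk (P : Ideal R) (s : MulAction.stabilizer H P) (x : R) :
    quotAut P s (Ideal.Quotient.mk P x) = Ideal.Quotient.mk P ((s : H) • x) := rfl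

/-- Residue field version: an element whose group matrix over the stabiliser is nonsingular. -/
theorem exists_residue [Finite H] (P : Ideal R) [P.IsMaximal]
    (hfree : ∀ h : H, h ≠ 1 → ∃ x : R, h • x - x ∉ P) :
    ∃ a : R ⧸ P, ∀ x : MulAction.stabilizer H P → R ⧸ P,
      (∀ s : MulAction.stabilizer H P,
        ∑ᶠ t : MulAction.stabilizer H P, quotAut P (s * t) a * x t = 0) → x = 0 := by
  classical
  let S := MulAction.stabilizer H P
  letI : Fintype S := Fintype.ofFinite S
  letI : Field (R ⧸ P) := Ideal.Quotient.field P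
  letI : MulSemiringAction S (R ⧸ P) :=
    MulSemiringAction.compHom (R ⧸ P) (quotAut (H := H) P)
  have hsmul : ∀ (s : S) (y : R ⧸ P), s • y = quotAut P s y := fun s y => rfl
  have : FaithfulSMul S (R ⧸ P) := by
    refine ⟨fun {s t} hst => ?_⟩
    by_contra hne
    have hne1 : ((t⁻¹ * s : S) : H) ≠ 1 := fun h1 => hne (inv_mul_eq_one.mp (Subtype.ext h1)).symm
    obtain ⟨x, hx⟩ := hfree _ hne1
    refine hx (Ideal.Quotient.eq.mp ?_)
    rw [← quotAut_mk, map_mul, RingAut.mul_apply, ← hsmul, ← hsmul, hst, inv_smul_smul]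
  obtain ⟨a, ha⟩ := exists_linearIndependent_algEquiv_apply
    (FixedPoints.subfield S (R ⧸ P)) (R ⧸ P)
  have hli : LinearIndependent (FixedPoints.subfield S (R ⧸ P)) (fun t : S => t • a) :=
    ha.comp _ (FixedPoints.toAlgAut_bijective S (R ⧸ P)).injective
  have hinj : Function.Injective (fun t : S => t • a) := hli.injective
  let s : Finset (R ⧸ P) := Finset.univ.image (fun t : S => t • a)
  have hs : LinearIndepOn (FixedPoints.subfield S (R ⧸ P)) id (s : Set (R ⧸ P)) := by
    rw [Finset.coe_image, Finset.coe_univ, Set.image_univ]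
    exact hli.linearIndepOn_id
  have hfun := FixedPoints.linearIndependent_smul_of_linearIndependent S (R ⧸ P) hs
  have hfun' : LinearIndependent (R ⧸ P) (fun t : S => fun g : S => g • (t • a)) :=
    hfun.comp (fun t : S => (⟨t • a, by simp [s]⟩ : (s : Set (R ⧸ P))))
      (fun t₁ t₂ h => hinj (congrArg Subtype.val h))
  refine ⟨a, fun x hx => funext fun t => ?_⟩
  refine Fintype.linearIndependent_iff.mp hfun' x (funext fun g => ?_) t
  rw [Finset.sum_apply, Pi.zero_apply, ← hx g, finsum_eq_sum_of_fintype]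
  exact Finset.sum_congr rfl fun u _ => by
    rw [Pi.smul_apply, smul_eq_mul, smul_smul, hsmul, mul_comm]

/-- The main lemma. -/
theorem exists_groupMatrix_isUnit [Fintype H] [DecidableEq H] [IsArtinianRing R]
    (hfree : ∀ h : H, h ≠ 1 → ∀ P : Ideal R, P.IsMaximal → ∃ x : R, h • x - x ∉ P) :
    ∃ θ : R, IsUnit (Matrix.det (Matrix.of fun g h : H => (g * h) • θ)) := by
  classical
  have hmax : ∀ (h : H) (P : Ideal R), P.IsMaximal → (h • P).IsMaximal := by
    intro h P hP
    rw [Ideal.pointwise_smul_def]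
    exact Ideal.map_isMaximal_of_equiv (MulSemiringAction.toRingEquiv H R h)
  letI act : MulAction H (MaximalSpectrum R) :=
    { smul := fun h m => ⟨h • m.asIdeal, hmax h _ m.isMaximal⟩
      one_smul := fun m => MaximalSpectrum.ext (one_smul H m.asIdeal)
      mul_smul := fun g h m => MaximalSpectrum.ext (mul_smul g h m.asIdeal) }
  have hact : ∀ (h : H) (m : MaximalSpectrum R), (h • m).asIdeal = h • m.asIdeal := fun _ _ => rfl
  let rep : MaximalSpectrum R → MaximalSpectrum R := fun m =>
    (Quotient.mk (MulAction.orbitRel H (MaximalSpectrum R)) m).out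
  have hrep : ∀ (h : H) (m : MaximalSpectrum R), rep (h • m) = rep m := fun h m =>
    congrArg Quotient.out (Quotient.sound ⟨h, rfl⟩)
  have hrep' : ∀ m, ∃ c : H, c • rep m = m := fun m => by
    obtain ⟨c, hc⟩ := Quotient.mk_out (s := MulAction.orbitRel H (MaximalSpectrum R)) m
    exact ⟨c⁻¹, by rw [inv_smul_eq_iff]; exact hc.symm⟩
  have hres : ∀ m : MaximalSpectrum R, ∃ b : R, ∀ x : MulAction.stabilizer H m.asIdeal → R ⧸ m.asIdeal,
      (∀ s : MulAction.stabilizer H m.asIdeal, ∑ᶠ t : MulAction.stabilizer H m.asIdeal,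
        quotAut m.asIdeal (s * t) (Ideal.Quotient.mk _ b) * x t = 0) → x = 0 := by
    intro m
    have := m.isMaximal
    obtain ⟨a, ha⟩ := exists_residue m.asIdeal fun h hh => hfree h hh _ m.isMaximal
    obtain ⟨b, rfl⟩ := Ideal.Quotient.mk_surjective a
    exact ⟨b, ha⟩
  choose b hb using hres
  have hco : Pairwise (Function.onFun IsCoprime fun m : MaximalSpectrum R => m.asIdeal) :=
    fun m n hmn => Ideal.isCoprime_iff_sup_eq.mpr
      (m.isMaximal.coprime_of_ne n.isMaximal fun h => hmn (MaximalSpectrum.ext h))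
  obtain ⟨θ, hθ⟩ := Ideal.exists_forall_sub_mem_ideal hco
    (fun m => if rep m = m then b m else 0)
  refine ⟨θ, ?_⟩
  set M : Matrix H H R := Matrix.of fun g h : H => (g * h) • θ with hM
  have hinv : ∀ c : H, c • M.det ∈ Ideal.span {M.det} := by
    intro c
    have h1 : (MulSemiringAction.toRingHom H R c).mapMatrix M =
        M.submatrix (Equiv.mulLeft c) id := by
      ext g h
      simp [hM, smul_smul, mul_assoc]
    have h2 := RingHom.map_det (MulSemiringAction.toRingHom H R c) M
    rw [h1, Matrix.det_permute] at h2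
    change MulSemiringAction.toRingHom H R c M.det ∈ _
    rw [h2]
    exact Ideal.mul_mem_left _ _ (Ideal.subset_span rfl)
  by_contra hnu
  obtain ⟨P, hP, hdetP⟩ := exists_max_ideal_of_mem_nonunits hnu
  obtain ⟨c, hc⟩ := hrep' ⟨P, hP⟩
  set m0 := rep ⟨P, hP⟩ with hm0
  have hrep0 : rep m0 = m0 := by
    conv_rhs => rw [hm0, ← hc, hrep]
  have hdet0 : M.det ∈ m0.asIdeal := by
    have h1 : c • M.det ∈ P :=
      (Ideal.span_singleton_le_iff_mem P).mpr hdetP (hinv c)
    have h2 : c • M.det ∈ c • m0.asIdeal := by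
      rw [← hact, hc]; exact h1
    exact Ideal.smul_mem_pointwise_smul_iff.mp h2
  have := m0.isMaximal
  letI : Field (R ⧸ m0.asIdeal) := Ideal.Quotient.field _
  set π := Ideal.Quotient.mk m0.asIdeal
  have hdet : (π.mapMatrix M).det = 0 := by
    rw [← RingHom.map_det]; exact Ideal.Quotient.eq_zero_iff_mem.mpr hdet0
  obtain ⟨x, hx0, hx⟩ := Matrix.exists_mulVec_eq_zero_iff.mpr hdet
  let S := MulAction.stabilizer H m0.asIdeal
  have hval : ∀ y : H, π (y • θ) =
      if hy : y ∈ S then quotAut m0.asIdeal ⟨y, hy⟩ (π (b m0)) else 0 := by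
    intro y
    split_ifs with hy
    · have h1 := hθ m0
      rw [if_pos hrep0] at h1
      rw [show π (b m0) = π θ from (Ideal.Quotient.eq.mpr h1).symm]
      rfl
    · have h1 := hθ (y⁻¹ • m0)
      have hne : rep (y⁻¹ • m0) ≠ y⁻¹ • m0 := by
        rw [hrep, hrep0]
        intro h2
        refine hy (MulAction.mem_stabilizer_iff.mpr ?_)
        have h3 := congrArg MaximalSpectrum.asIdeal (eq_inv_smul_iff.mp h2)
        exact h3
      rw [if_neg hne, sub_zero, hact, Ideal.mem_inv_pointwise_smul_iff] at h1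
      exact Ideal.Quotient.eq_zero_iff_mem.mpr h1
  refine hx0 (funext fun h0 => ?_)
  letI : Fintype S := Fintype.ofFinite S
  have hz := hb m0 (fun t => x (h0 * (t : H))) fun s => by
    have h1 := congrFun hx ((s : H) * h0⁻¹)
    rw [Pi.zero_apply] at h1
    rw [finsum_eq_sum_of_fintype, ← h1, Matrix.mulVec, dotProduct]
    refine Finset.sum_bij_ne_zero (fun t _ _ => h0 * (t : H)) (fun _ _ _ => Finset.mem_univ _)
      (fun t _ _ u _ _ h2 => Subtype.ext (mul_left_cancel h2)) ?_ ?_
    · intro h _ hh
      have hy : (s : H) * h0⁻¹ * h ∈ S := by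
        by_contra hy
        refine hh ?_
        simp only [RingHom.mapMatrix_apply, Matrix.map_apply, hM, Matrix.of_apply]
        rw [hval, dif_neg hy, zero_mul]
      have hh0 : h0⁻¹ * h ∈ S := by
        have h3 := mul_mem (inv_mem s.2) hy
        rwa [show (s : H)⁻¹ * ((s : H) * h0⁻¹ * h) = h0⁻¹ * h by group] at h3
      refine ⟨⟨h0⁻¹ * h, hh0⟩, Finset.mem_univ _, ?_, by simp⟩
      intro h2
      refine hh ?_
      simp only [RingHom.mapMatrix_apply, Matrix.map_apply, hM, Matrix.of_apply]
      rw [hval, dif_pos hy]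
      convert h2 using 3
      · congr 1
        exact Subtype.ext (mul_assoc _ _ _)
      · simp
    · intro t _ _
      simp only [RingHom.mapMatrix_apply, Matrix.map_apply, hM, Matrix.of_apply]
      have h4 : (s : H) * h0⁻¹ * (h0 * (t : H)) = ((s * t : S) : H) := by
        rw [Subgroup.coe_mul]; group
      rw [hval, dif_pos (by rw [h4]; exact (s * t).2)]
      congr 3
      exact Subtype.ext (by simp [mul_assoc])
  simpa using congrFun hz 1

end Cfsg.Agent.FrobFree
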